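import Groth.Prelude.Def_W4c6intromoduliQuartic
import Mathlib

set_option autoImplicit false

universe u

namespace Groth.Agent.BinQuarticLib

open W4c6intromoduli

variable {k : Type u} [Field k]

/-- The bracket of two root points. -/
def br (la mu : Fin 4 → k) (i j : Fin 4) : k := la j * mu i - la i * mu j

theorem br_ne (la mu : Fin 4 → k) (hd : disc la mu ≠ 0) (i j : Fin 4) (h : i ≠ j) : br la mu i j ≠ 0 := by
  have key : ∀ a b : Fin 4, a < b → br la mu a b ≠ 0 := by
    intro a b hab h0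
    apply hd
    rw [disc]
    refine Finset.prod_eq_zero (i := (a, b)) (by simp [hab]) ?_
    show (la b * mu a - la a * mu b) ^ 2 = 0
    rw [show la b * mu a - la a * mu b = 0 from h0, zero_pow two_ne_zero]
  rcases lt_or_gt_of_ne h with h1 | h1
  · exact key i j h1
  · intro h0
    exact key j i h1 (by rw [br] at h0 ⊢; linear_combination -h0)

theorem coef_eq (la mu : Fin 4 → k) :
    coef la mu 0 = mu 0 * mu 1 * mu 2 * mu 3 ∧
    coef la mu 1 = -(la 0 * mu 1 * mu 2 * mu 3 + mu 0 * la 1 * mu 2 * mu 3 + mu 0 * mu 1 * la 2 * mu 3 +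
      mu 0 * mu 1 * mu 2 * la 3) ∧
    coef la mu 2 = la 0 * la 1 * mu 2 * mu 3 + la 0 * mu 1 * la 2 * mu 3 + la 0 * mu 1 * mu 2 * la 3 +
      mu 0 * la 1 * la 2 * mu 3 + mu 0 * la 1 * mu 2 * la 3 + mu 0 * mu 1 * la 2 * la 3 ∧
    coef la mu 3 = -(la 0 * la 1 * la 2 * mu 3 + la 0 * la 1 * mu 2 * la 3 + la 0 * mu 1 * la 2 * la 3 +
      mu 0 * la 1 * la 2 * la 3) ∧
    coef la mu 4 = la 0 * la 1 * la 2 * la 3 := by
  have h : rootPoly la mu = Polynomial.C (mu 0 * mu 1 * mu 2 * mu 3) +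
      Polynomial.C (-(la 0 * mu 1 * mu 2 * mu 3 + mu 0 * la 1 * mu 2 * mu 3 + mu 0 * mu 1 * la 2 * mu 3 +
        mu 0 * mu 1 * mu 2 * la 3)) * Polynomial.X ^ 1 +
      Polynomial.C (la 0 * la 1 * mu 2 * mu 3 + la 0 * mu 1 * la 2 * mu 3 + la 0 * mu 1 * mu 2 * la 3 +
        mu 0 * la 1 * la 2 * mu 3 + mu 0 * la 1 * mu 2 * la 3 + mu 0 * mu 1 * la 2 * la 3) * Polynomial.X ^ 2 +
      Polynomial.C (-(la 0 * la 1 * la 2 * mu 3 + la 0 * la 1 * mu 2 * la 3 + la 0 * mu 1 * la 2 * la 3 +
        mu 0 * la 1 * la 2 * la 3)) * Polynomial.X ^ 3 +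
      Polynomial.C (la 0 * la 1 * la 2 * la 3) * Polynomial.X ^ 4 := by
    simp only [rootPoly, Fin.prod_univ_four, map_add, map_mul, map_neg]
    ring
  simp only [coef, h, Polynomial.coeff_add, Polynomial.coeff_C_mul, Polynomial.coeff_X_pow, Polynomial.coeff_C]
  norm_num

theorem inv_eq (la mu : Fin 4 → k) :
    invI (coef la mu) = (br la mu 0 1 * br la mu 2 3) ^ 2 + br la mu 0 1 * br la mu 2 3 * (br la mu 0 3 * br la mu 1 2) +
      (br la mu 0 3 * br la mu 1 2) ^ 2 ∧
    invJ (coef la mu) = -((br la mu 0 3 * br la mu 1 2 - br la mu 0 1 * br la mu 2 3) *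
      (2 * (br la mu 0 1 * br la mu 2 3) + br la mu 0 3 * br la mu 1 2) *
      (br la mu 0 1 * br la mu 2 3 + 2 * (br la mu 0 3 * br la mu 1 2))) := by
  obtain ⟨h0, h1, h2, h3, h4⟩ := coef_eq la mu
  simp only [invI, invJ, br, h0, h1, h2, h3, h4]
  constructor <;> ring

/-- The cross-ratio condition. -/
def Cross (la mu la' mu' : Fin 4 → k) : Prop :=
  br la' mu' 0 1 * br la' mu' 2 3 * (br la mu 0 3 * br la mu 1 2) =
    br la mu 0 1 * br la mu 2 3 * (br la' mu' 0 3 * br la' mu' 1 2)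

theorem exists_perm (h3 : (3 : k) ≠ 0) (la mu la' mu' : Fin 4 → k)
    (h : invI (coef la mu) ^ 3 * invJ (coef la' mu') ^ 2 = invI (coef la' mu') ^ 3 * invJ (coef la mu) ^ 2) :
    ∃ σ : Equiv.Perm (Fin 4), Cross la mu (la' ∘ σ) (mu' ∘ σ) := by
  set A := br la mu 0 1 * br la mu 2 3 with hA
  set C := br la mu 0 3 * br la mu 1 2 with hC
  set a := br la' mu' 0 1 * br la' mu' 2 3 with ha
  set c := br la' mu' 0 3 * br la' mu' 1 2 with hc
  rw [(inv_eq la mu).1, (inv_eq la mu).2, (inv_eq la' mu').1, (inv_eq la' mu').2, ← hA, ← hC, ← ha, ← hc] at h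
  have hfac : (27 : k) * ((a * C - A * c) * (-a * C - A * (a + c)) * ((a + c) * C + A * c) *
      (-c * C + A * a) * (c * C + A * (a + c)) * (-(a + c) * C - A * a)) = 0 := by linear_combination h
  have h27 : (27 : k) ≠ 0 := by
    rw [show (27 : k) = 3 ^ 3 by norm_num]; exact pow_ne_zero _ h3
  rcases mul_eq_zero.1 hfac with h0 | hfac
  · exact absurd h0 h27
  rcases mul_eq_zero.1 hfac with hfac | h6
  rcases mul_eq_zero.1 hfac with hfac | h5
  rcases mul_eq_zero.1 hfac with hfac | h4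
  rcases mul_eq_zero.1 hfac with hfac | h33
  rcases mul_eq_zero.1 hfac with h1 | h22
  · refine ⟨1, ?_⟩
    simp only [Cross, ← hA, ← hC]
    simp only [br, Equiv.Perm.coe_one, Function.comp_id, ha, hc] at h1 ⊢
    linear_combination h1
  · refine ⟨Equiv.swap 0 1, ?_⟩
    simp only [Cross, ← hA, ← hC]
    simp only [br, ha, hc, Function.comp_apply, Equiv.swap_apply_def, Fin.reduceEq, if_false, if_true] at h22 ⊢
    linear_combination h22
  · refine ⟨Equiv.swap 1 2, ?_⟩
    simp only [Cross, ← hA, ← hC]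
    simp only [br, ha, hc, Function.comp_apply, Equiv.swap_apply_def, Fin.reduceEq, if_false, if_true] at h33 ⊢
    linear_combination h33
  · refine ⟨Equiv.swap 0 2, ?_⟩
    simp only [Cross, ← hA, ← hC]
    simp only [br, ha, hc, Function.comp_apply, Equiv.swap_apply_def, Fin.reduceEq, if_false, if_true] at h4 ⊢
    linear_combination h4
  · refine ⟨Equiv.swap 0 1 * Equiv.swap 1 2, ?_⟩
    simp only [Cross, ← hA, ← hC]
    simp only [br, ha, hc, Function.comp_apply, Equiv.Perm.coe_mul, Equiv.swap_apply_def, Fin.reduceEq, if_false, if_true] at h5 ⊢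
    linear_combination h5
  · refine ⟨Equiv.swap 1 2 * Equiv.swap 0 1, ?_⟩
    simp only [Cross, ← hA, ← hC]
    simp only [br, ha, hc, Function.comp_apply, Equiv.Perm.coe_mul, Equiv.swap_apply_def, Fin.reduceEq, if_false, if_true] at h6 ⊢
    linear_combination h6

theorem exists_subst (la mu la' mu' : Fin 4 → k) (hd : disc la mu ≠ 0)
    (hb' : ∀ i j, i ≠ j → br la' mu' i j ≠ 0) (hcr : Cross la mu la' mu') :
    ∃ (M : Matrix (Fin 2) (Fin 2) k) (c : k), IsUnit M.det ∧ c ≠ 0 ∧
      binForm la' mu' = MvPolynomial.C c * subst M (binForm la mu) := by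
  have hb := br_ne la mu hd
  set D := br la' mu' 0 1 with hD
  have hD0 : D ≠ 0 := hb' 0 1 (by decide)
  let s0 : k := br la mu 2 1 / br la' mu' 2 1
  let s1 : k := br la mu 0 2 / br la' mu' 0 2
  have n21 : br la' mu' 2 1 ≠ 0 := hb' 2 1 (by decide)
  have n02 : br la' mu' 0 2 ≠ 0 := hb' 0 2 (by decide)
  let M : Matrix (Fin 2) (Fin 2) k :=
    !![(s0 * la 0 * (-mu' 1) + s1 * la 1 * mu' 0) / D, (s0 * la 0 * la' 1 + s1 * la 1 * (-la' 0)) / D;
       (s0 * mu 0 * (-mu' 1) + s1 * mu 1 * mu' 0) / D, (s0 * mu 0 * la' 1 + s1 * mu 1 * (-la' 0)) / D]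
  -- the multiplier at each root
  let s : Fin 4 → k := ![s0, s1, br la mu 0 1 / D,
    br la mu 2 1 * br la' mu' 3 1 * br la mu 0 1 / (br la' mu' 2 1 * br la mu 3 1 * D)]
  have hs : ∀ i, s i ≠ 0 := by
    intro i
    fin_cases i <;> simp only [s, s0, s1] <;> simp [hD0, hb _ _ (show (2 : Fin 4) ≠ 1 by decide),
      hb _ _ (show (0 : Fin 4) ≠ 2 by decide), hb _ _ (show (0 : Fin 4) ≠ 1 by decide),
      hb _ _ (show (3 : Fin 4) ≠ 1 by decide), hb' _ _ (show (3 : Fin 4) ≠ 1 by decide), n21, n02]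
  have hM : ∀ i, M 0 0 * la' i + M 0 1 * mu' i = s i * la i ∧ M 1 0 * la' i + M 1 1 * mu' i = s i * mu i := by
    have n31 : br la mu 3 1 ≠ 0 := hb 3 1 (by decide)
    intro i
    fin_cases i
    · simp [M, s]
      constructor <;> field_simp <;> simp only [hD, br] <;> ring
    · simp [M, s]
      constructor <;> field_simp <;> simp only [hD, br] <;> ring
    · simp [M, s, s0, s1]
      constructor <;> field_simp <;> simp only [hD, br] <;> ring
    · have hk : br la' mu' 3 1 * s0 * br la mu 0 3 = br la' mu' 0 3 * s1 * br la mu 3 1 := by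
        simp only [s0, s1]
        field_simp
        simp only [Cross, br] at hcr ⊢
        linear_combination hcr
      simp [M, s]
      have hcomb : ∀ (X : Fin 4 → k), (X = la ∨ X = mu) →
          br la mu 0 1 * X 3 = br la mu 3 1 * X 0 + br la mu 0 3 * X 1 := by
        rintro X (rfl | rfl) <;> simp only [br] <;> ring
      have hs3 : br la mu 2 1 * br la' mu' 3 1 * br la mu 0 1 / (br la' mu' 2 1 * br la mu 3 1 * D) =
          s0 * br la' mu' 3 1 * br la mu 0 1 / (br la mu 3 1 * D) := by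
        simp only [s0]
        field_simp
      rw [hs3]
      constructor
      · field_simp
        have hc := hcomb la (Or.inl rfl)
        simp only [br] at hk hc ⊢
        linear_combination -(la 1) * hk - s0 * (la' 1 * mu' 3 - la' 3 * mu' 1) * hc
      · field_simp
        have hc := hcomb mu (Or.inr rfl)
        simp only [br] at hk hc ⊢
        linear_combination -(mu 1) * hk - s0 * (la' 1 * mu' 3 - la' 3 * mu' 1) * hc
  have hdet : M.det = s0 * s1 * br la mu 0 1 / D := by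
    simp only [M, Matrix.det_fin_two_of]
    field_simp
    simp only [hD, br]
    ring
  have hdet0 : M.det ≠ 0 := by
    rw [hdet]
    exact div_ne_zero (mul_ne_zero (mul_ne_zero (hs 0) (hs 1)) (hb 0 1 (by decide))) hD0
  refine ⟨M, ∏ i, (s i / M.det), isUnit_iff_ne_zero.2 hdet0,
    Finset.prod_ne_zero_iff.2 fun i _ => div_ne_zero (hs i) hdet0, ?_⟩
  rw [binForm, binForm, map_prod, map_prod, ← Finset.prod_mul_distrib]
  refine Finset.prod_congr rfl fun i _ => ?_
  obtain ⟨e1, e2⟩ := hM i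
  have key0 : mu' i = s i / M.det * (mu i * M 0 0 - la i * M 1 0) := by
    field_simp
    rw [Matrix.det_fin_two]
    linear_combination (M 0 0) * e2 - (M 1 0) * e1
  have key1 : -la' i = s i / M.det * (mu i * M 0 1 - la i * M 1 1) := by
    field_simp
    rw [Matrix.det_fin_two]
    linear_combination (M 0 1) * e2 - (M 1 1) * e1
  simp only [subst, map_sub, map_mul, MvPolynomial.aeval_C, MvPolynomial.aeval_X, MvPolynomial.algebraMap_eq, Fin.sum_univ_two]
  rw [sub_eq_add_neg, ← neg_mul, ← map_neg, key0, key1]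
  simp only [map_mul, map_sub]
  ring

end Groth.Agent.BinQuarticLib
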